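import Cfsg.Agent.CosetCert.FiTwentyTwoO.Data

/-! Machine-generated checks. -/

set_option maxRecDepth 10000

namespace Cfsg.Agent.CosetCert.FiTwentyTwoO

open Cfsg.Agent.CosetCert

theorem facts_block32 : allB (fun k => Nat.ble data.nf k || data.cert.factOK k) 11 65536 = true := by
  decide +kernel

theorem facts_block33 : allB (fun k => Nat.ble data.nf k || data.cert.factOK k) 11 67584 = true := by
  decide +kernel

theorem facts_block34 : allB (fun k => Nat.ble data.nf k || data.cert.factOK k) 11 69632 = true := by
  decide +kernel

theorem facts_block35 : allB (fun k => Nat.ble data.nf k || data.cert.factOK k) 11 71680 = true := by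
  decide +kernel

theorem facts_block36 : allB (fun k => Nat.ble data.nf k || data.cert.factOK k) 11 73728 = true := by
  decide +kernel

theorem facts_block37 : allB (fun k => Nat.ble data.nf k || data.cert.factOK k) 11 75776 = true := by
  decide +kernel

theorem facts_block38 : allB (fun k => Nat.ble data.nf k || data.cert.factOK k) 11 77824 = true := by
  decide +kernel

theorem facts_block39 : allB (fun k => Nat.ble data.nf k || data.cert.factOK k) 11 79872 = true := by
  decide +kernel

theorem facts_block40 : allB (fun k => Nat.ble data.nf k || data.cert.factOK k) 11 81920 = true := by
  decide +kernel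

theorem facts_block41 : allB (fun k => Nat.ble data.nf k || data.cert.factOK k) 11 83968 = true := by
  decide +kernel

theorem facts_block42 : allB (fun k => Nat.ble data.nf k || data.cert.factOK k) 11 86016 = true := by
  decide +kernel

theorem facts_block43 : allB (fun k => Nat.ble data.nf k || data.cert.factOK k) 11 88064 = true := by
  decide +kernel

theorem facts_block44 : allB (fun k => Nat.ble data.nf k || data.cert.factOK k) 11 90112 = true := by
  decide +kernel

end Cfsg.Agent.CosetCert.FiTwentyTwoO
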